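import Groth.Agent.Lib.CurveFin32.Base
import Groth.Agent.Lib.DescInt13.GodCoh
import Groth.Agent.Lib.EtPic3.Artinian
import Groth.Agent.Lib.EtBCQ24.Mono
import Groth.Prelude.Def_SixF3
import Groth.Prelude.Def_Curve
import Groth.Agent.S1627
import Groth.Agent.S0147
import Groth.Agent.S0108

/-!
# Roots of unity on affine curves
-/

set_option autoImplicit false
set_option linter.style.haveILetI false
set_option linter.unusedSectionVars false
set_option backward.isDefEq.respectTransparency.types false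
set_option maxHeartbeats 1000000

universe u

open CategoryTheory CategoryTheory.Limits AlgebraicGeometry Opposite CategoryTheory.Abelian

noncomputable section

namespace Groth.Agent.AffMu32

open Groth.Agent

variable {k : Type u} [Field k]

/-- The sheaf of roots of unity is torsion. -/
theorem isTorsion_mu (Q : Scheme.{u}) {n : ℕ} (hn : 1 ≤ n) : EtCoh.IsTorsion (EtCoh.mu Q n) := by
  have hk : EtCoh.KilledBy n (EtCoh.mu Q n) := EtBCQ24.killedBy_of_nsmul (by
    haveI : Mono (EtCoh.muι Q n) := inferInstanceAs (Mono (kernel.ι _))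
    rw [← cancel_mono (EtCoh.muι Q n), Preadditive.nsmul_comp, Category.id_comp, zero_comp,
      ← Category.comp_id (EtCoh.muι Q n), ← Preadditive.comp_nsmul]
    exact kernel.condition _)
  exact fun U s x => ⟨U, 𝟙 U, ⟨x, rfl⟩, isOfFinAddOrder_iff_nsmul_eq_zero.2 ⟨n, hn, by simp [hk U s]⟩⟩

/-- A proper integral curve has infinitely many points. -/
theorem not_finite {X : Scheme.{u}} (f : X ⟶ Spec (CommRingCat.of k)) [IsProper f] [IsIntegral X]
    (hdim : topologicalKrullDim X = 1) (hXf : Finite X) : False := by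
  haveI : JacobsonSpace X := LocallyOfFiniteType.jacobsonSpace f
  haveI : DiscreteTopology X := inferInstance
  haveI : Subsingleton X := Set.subsingleton_univ_iff.1
    (IsPreirreducible.subsingleton (PreirreducibleSpace.isPreirreducible_univ (X := X)))
  haveI : Subsingleton (TopologicalSpace.IrreducibleCloseds X) := ⟨fun a b => TopologicalSpace.IrreducibleCloseds.ext
    ((Subsingleton.eq_univ_of_nonempty a.isIrreducible.nonempty).trans
      (Subsingleton.eq_univ_of_nonempty b.isIrreducible.nonempty).symm)⟩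
  have : topologicalKrullDim X ≤ 0 := Order.krullDim_nonpos_of_subsingleton
  rw [hdim] at this
  exact absurd this (by decide)

/-- The complement of a nonempty finite set of closed points in a proper curve is affine. -/
theorem isAffine_opens {X : Scheme.{u}} (f : X ⟶ Spec (CommRingCat.of k)) [IsProper f] [IsIntegral X]
    (hdim : topologicalKrullDim X = 1) (U : X.Opens) (hfin : ((U : Set X)ᶜ).Finite) (hne : (U : Set X) ≠ Set.univ)
    (hU : (U : Set X).Nonempty) : IsAffine (U : Scheme.{u}) := by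
  haveI : Nonempty (U : Scheme.{u}) := ⟨⟨hU.some, hU.some_mem⟩⟩
  haveI : IsIntegral (U : Scheme.{u}) := isIntegral_of_isOpenImmersion U.ι
  haveI : IsLocallyNoetherian X := LocallyOfFiniteType.isLocallyNoetherian f
  haveI : CompactSpace X := QuasiCompact.compactSpace_of_compactSpace f
  haveI : IsNoetherian X := {}
  letI : (U : Scheme.{u}).Over (Spec (CommRingCat.of k)) := ⟨U.ι ≫ f⟩
  haveI : IsSeparated ((U : Scheme.{u}) ↘ Spec (CommRingCat.of k)) :=
    inferInstanceAs (IsSeparated (U.ι ≫ f))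
  haveI : LocallyOfFiniteType ((U : Scheme.{u}) ↘ Spec (CommRingCat.of k)) :=
    inferInstanceAs (LocallyOfFiniteType (U.ι ≫ f))
  haveI : QuasiCompact ((U : Scheme.{u}) ↘ Spec (CommRingCat.of k)) :=
    inferInstanceAs (QuasiCompact (U.ι ≫ f))
  have hle : topologicalKrullDim (U : Scheme.{u}) ≤ 1 :=
    (topologicalKrullDim_subspace_le X (U : Set X)).trans hdim.le
  have hdU : topologicalKrullDim (U : Scheme.{u}) = 1 := by
    refine le_antisymm hle ?_
    by_contra hlt
    have h0 : topologicalKrullDim (U : Scheme.{u}) ≤ 0 := by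
      match hd : topologicalKrullDim (U : Scheme.{u}), not_le.1 hlt with
      | ⊥, _ => exact bot_le
      | (m : ℕ∞), h => exact WithBot.coe_le_coe.2 (Order.lt_one_iff.1 (WithBot.coe_lt_coe.1 h)).le
    have hpt : ∀ x : (U : Scheme.{u}), x = genericPoint (U : Scheme.{u}) := fun x => by
      have hmin := Order.krullDim_nonpos_iff_forall_isMin.1 h0
        ⟨Set.univ, IrreducibleSpace.isIrreducible_univ _, isClosed_univ⟩
      have h1 := hmin (b := ⟨closure {x}, isIrreducible_singleton.closure, isClosed_closure⟩) fun y _ => trivial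
      exact IsGenericPoint.eq (Set.Subset.antisymm (Set.subset_univ _) h1) (genericPoint_spec _)
    have hXf : Finite X := by
      have hUf : ((U : Set X)).Finite := (Set.subsingleton_of_forall_eq (genericPoint (U : Scheme.{u})).1
        fun x hx => congrArg Subtype.val (hpt ⟨x, hx⟩)).finite
      exact Set.finite_univ_iff.1 (Set.union_compl_self (U : Set X) ▸ hUf.union hfin)
    exact not_finite f hdim hXf
  refine (Groth.Agent.S1627.result k (U : Scheme.{u}) hdU).resolve_right fun ⟨d, c, hc, hc'⟩ => hne ?_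
  haveI := hc
  haveI : IsProper (U.ι ≫ f) := by
    rw [show U.ι ≫ f = c ≫ CohB1.ProjSpace.toSpec d k from hc'.symm]
    infer_instance
  haveI : IsProper U.ι := IsProper.of_comp U.ι f
  have hcl : IsClosed (U : Set X) := by
    rw [← Scheme.Opens.range_ι U]; exact U.ι.isClosedMap.isClosed_range
  exact IsClopen.eq_univ ⟨hcl, U.2⟩ hU

/-- Global sections of the roots of unity on an integral scheme over an algebraically closed field. -/
theorem nonempty_H0_mu [IsAlgClosed k] {Q : Scheme.{u}} (f : Q ⟶ Spec (CommRingCat.of k)) [IsIntegral Q]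
    {n : ℕ} (hn : 1 ≤ n) (hnk : (n : k) ≠ 0) :
    Nonempty (EtCoh.H Q (EtCoh.mu Q n) 0 ≃+ Additive ↥(rootsOfUnity n k)) := by
  haveI : NeZero n := ⟨by omega⟩
  haveI : NeZero (n : k) := ⟨hnk⟩
  let φ : k →+* Γ(Q, ⊤) := ((Scheme.ΓSpecIso (CommRingCat.of k)).inv ≫ f.appTop).hom
  haveI : Nonempty (⊤ : Q.Opens) := ⟨⟨genericPoint Q, trivial⟩⟩
  haveI : IsDomain Γ(Q, ⊤) := inferInstance
  have hu : IsUnit (n : Γ(Q, ⊤)) := by
    have := (isUnit_iff_ne_zero.2 hnk).map φ
    rwa [map_natCast] at this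
  have hbij : Function.Bijective (restrictRootsOfUnity φ n) := by
    have hinj : Function.Injective (restrictRootsOfUnity φ n) := fun a b hab =>
      Subtype.ext (Units.ext (φ.injective (show φ ((a : kˣ) : k) = φ ((b : kˣ) : k) from
        congrArg (fun z : rootsOfUnity n Γ(Q, ⊤) => ((z : (Γ(Q, ⊤))ˣ) : Γ(Q, ⊤))) hab)))
    refine (Nat.bijective_iff_injective_and_card _).2 ⟨hinj, ?_⟩
    refine le_antisymm (Nat.card_le_card_of_injective _ hinj) ?_
    rw [HasEnoughRootsOfUnity.natCard_rootsOfUnity k n]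
    exact card_rootsOfUnity _ n
  let eR : rootsOfUnity n k ≃* rootsOfUnity n Γ(Q, ⊤) := MulEquiv.ofBijective _ hbij
  have hepi : Epi (EtCoh.powMap Q n) := Groth.Agent.S0108.result Q n hu
  have hS := EtSix.kummerShortExact hepi
  let T := EtCoh.top Q
  let θ : EtCoh.H Q (EtCoh.mu Q n) 0 →+ (EtCoh.Gm Q).obj.obj (op T) :=
    (DescInt13.secEquiv (EtCoh.Gm Q)).toAddMonoidHom.comp (Sheaf.H.map (EtCoh.muι Q n) 0)
  have hθ : Function.Injective θ := fun a b hab => by
    have hab' := (DescInt13.secEquiv (EtCoh.Gm Q)).injective hab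
    obtain ⟨a, rfl⟩ := (Ext.mk₀_bijective _ _).2 a
    obtain ⟨b, rfl⟩ := (Ext.mk₀_bijective _ _).2 b
    have h2 : Ext.mk₀ (a ≫ EtCoh.muι Q n) = Ext.mk₀ (b ≫ EtCoh.muι Q n) :=
      (Ext.mk₀_comp_mk₀ _ _).symm.trans (hab'.trans (Ext.mk₀_comp_mk₀ _ _))
    haveI : Mono (EtCoh.muι Q n) := inferInstanceAs (Mono (kernel.ι _))
    exact congrArg _ ((cancel_mono (EtCoh.muι Q n)).1 ((Ext.mk₀_bijective _ _).1 h2))
  let ψ : Additive (rootsOfUnity n Γ(Q, ⊤)) →+ (EtCoh.Gm Q).obj.obj (op T) :=
    (EtPic3.ε T).comp (MonoidHom.toAdditive (rootsOfUnity n Γ(Q, ⊤)).subtype)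
  have hψ : Function.Injective ψ := (EtPic3.ε_injective T).comp fun a b h => Subtype.ext h
  have hrange : θ.range = ψ.range := by
    ext t
    constructor
    · rintro ⟨x, rfl⟩
      obtain ⟨v, hv⟩ := EtPic3.ε_surjective T (θ x)
      have h0 : n • θ x = 0 := by
        rw [← CurveFin32.powMap_app]
        show (EtCoh.powMap Q n).hom.app (op T) (DescInt13.secEquiv _ (x.comp (Ext.mk₀ (EtCoh.muι Q n)) (add_zero 0))) = 0
        rw [← DescInt13.secEquiv_comp, CurveFin32.comp_mk₀_eq_zero (show EtCoh.muι Q n ≫ EtCoh.powMap Q n = 0 from kernel.condition _), map_zero]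
      rw [← hv, ← map_nsmul, ← map_zero (EtPic3.ε T)] at h0
      refine ⟨Additive.ofMul ⟨(Additive.toMul v : (Γ(Q, ⊤))ˣ), ?_⟩, hv⟩
      exact (mem_rootsOfUnity n _).2 (congrArg Additive.toMul (EtPic3.ε_injective T h0))
    · rintro ⟨v, rfl⟩
      let y := (DescInt13.secEquiv (EtCoh.Gm Q)).symm (ψ v)
      have hy : y.comp (Ext.mk₀ (EtCoh.powMap Q n)) (add_zero 0) = 0 := by
        refine (DescInt13.secEquiv (EtCoh.Gm Q)).injective ?_
        rw [DescInt13.secEquiv_comp, AddEquiv.apply_symm_apply, map_zero, CurveFin32.powMap_app, ← map_nsmul,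
          show n • v = 0 from Subtype.ext ((mem_rootsOfUnity n _).1 (Additive.toMul v).2), map_zero]
      obtain ⟨x, hx⟩ := Ext.covariant_sequence_exact₂ _ hS y hy
      exact ⟨x, (congrArg _ hx).trans ((DescInt13.secEquiv (EtCoh.Gm Q)).apply_symm_apply _)⟩
  exact ⟨((AddMonoidHom.ofInjective hθ).trans ((AddEquiv.addSubgroupCongr hrange).trans
    (AddMonoidHom.ofInjective hψ).symm)).trans (MulEquiv.toAdditive eR.symm)⟩

end Groth.Agent.AffMu32
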